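import Cfsg.Agent.H635.SB.Sq
import Cfsg.Agent.H559.FiSpec
import Cfsg.Agent.H647.SpF.Fi22Main
import Cfsg.Agent.H210.SB.Fi22
import Cfsg.Agent.PreUniqCo.FiTwentyTwo

/-!
# S4884: the row of `Fi22` (helper174)

`NB 2 6` from the orders of the centralizers of the elements of odd prime order, `RowQ.of_sq` at the
primes 5, 7, 11, 13; `q = 3` is `H210.SB.Fi22.rowQ_three`.
-/

set_option autoImplicit false

open Cfsg Subgroup

namespace Cfsg.Agent.H174.SB.FiTwentyTwo

open Cfsg.Agent.H317.PQ Cfsg.Agent.H709.PB Cfsg.Agent.H635.SB Cfsg.Agent.H537.Cop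

universe u

theorem card_eq : Nat.card Spor.Fi22 = 64561751654400 := H559.FiSpec.card_eq ⟨MulEquiv.refl _⟩

theorem finite_m : Finite Spor.Fi22 := Nat.finite_of_card_ne_zero (by rw [card_eq]; norm_num)

theorem primes {r : ℕ} (hr : r.Prime) (hd : r ∣ Nat.card Spor.Fi22) :
    r = 2 ∨ r = 3 ∨ r = 5 ∨ r = 7 ∨ r = 11 ∨ r = 13 := by
  rcases Nat.lt_or_ge r 5 with h5 | h5
  · have h2 := hr.two_le
    have h4 : r ≠ 4 := by rintro rfl; norm_num at hr
    omega
  · rcases PreUniqCo.FiTwentyTwo.primes hr h5 (by rwa [card_eq] at hd) with h | h | h | h <;> simp [h]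

/-- `C(y)` for `y` of odd prime order has no subgroup of order `2 ^ 12` -/
theorem nb_two : NB 2 6 Spor.Fi22 := by
  have : Fact (Nat.Prime 2) := ⟨Nat.prime_two⟩
  have := finite_m
  refine NB.of_orders (q := 2) (a := 17) (by rw [card_eq]; norm_num) fun y hy h2 hd => ?_
  rw [show 17 + 1 - 6 = 12 by norm_num] at hd
  rcases primes hy (orderOf_dvd_natCard y) with h | h | h | h | h | h
  · exact h2 h
  · exact H647.SpF.Fi22.cb_3_2 y h hd
  · rw [H559.FiSpec.cent5 ⟨MulEquiv.refl _⟩ h] at hd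
    norm_num at hd
  · rw [H559.FiSpec.cent7 ⟨MulEquiv.refl _⟩ h] at hd
    norm_num at hd
  · rw [H559.FiSpec.cent11 ⟨MulEquiv.refl _⟩ h] at hd
    norm_num at hd
  · rw [H559.FiSpec.cent13 ⟨MulEquiv.refl _⟩ h] at hd
    norm_num at hd

theorem rowQ_model {q : ℕ} (hq : q.Prime) (hq2 : q ≠ 2) (hd : q ∣ Nat.card Spor.Fi22) : RowQ q Spor.Fi22 := by
  have := finite_m
  have h1 : NB 2 1 Spor.Fi22 := nb_two.mono (by norm_num)
  have hc := card_eq
  rcases primes hq hd with rfl | rfl | rfl | rfl | rfl | rfl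
  · exact absurd rfl hq2
  · exact H210.SB.Fi22.rowQ_three ⟨MulEquiv.refl _⟩
  · exact RowQ.of_sq (by norm_num) h1 (by rw [hc]; norm_num) (by rw [hc]; norm_num)
  · exact RowQ.of_sq (by norm_num) h1 (by rw [hc]; norm_num) (by rw [hc]; norm_num)
  · exact RowQ.of_sq (by norm_num) h1 (by rw [hc]; norm_num) (by rw [hc]; norm_num)
  · exact RowQ.of_sq (by norm_num) h1 (by rw [hc]; norm_num) (by rw [hc]; norm_num)

/-- **The row of `Fi22`.** -/
theorem row_fi22 {q : ℕ} (hq : q.Prime) (hq2 : q ≠ 2) {S : Type u} [Group S] (h : Spor.IsoFi22 S)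
    (hd : q ∣ Nat.card S) : RowQ q S := by
  obtain ⟨e⟩ := h
  have := finite_m
  rw [Nat.card_congr e.toEquiv] at hd
  exact RowQ.of_equiv e.symm (rowQ_model hq hq2 hd)

end Cfsg.Agent.H174.SB.FiTwentyTwo
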